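import Cfsg.Agent.H72.G2G.LevB
import Cfsg.Agent.H327.RG.FldAbs
import Cfsg.Agent.H327.RG.Untw

/-!
# S3509, `G₂(3^n)`, `n` odd: a cover with a graph-field automorphism of order 2 is impossible (helper72)

* `cent_L`, `fin_L` : the facts about the level; `graph_G2`.
-/

set_option autoImplicit false
set_option linter.unusedSectionVars false

namespace Cfsg.Agent.H72.G2G

open MulAction Subgroup Cfsg Cfsg.Lie Cfsg.Lie.ChevalleyDatum
open Cfsg.Agent.ChevalleyStructure Cfsg.Agent.ChevalleyStructure.Elts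
open Cfsg.Agent.H689.Ccp (hD X fl la X_neg X_add X_zero X_inj ext_aut fl_tab H_conj comm_11)
open Cfsg.Agent.H70.ChevFix (xe)
open Cfsg.Agent.GpExc.Field (glMap emb coe_emb glMap_xG emb_injective coe_glMap)
open Cfsg.Agent.BpExc.FamUntw Cfsg.Agent.BpExc.FamField Cfsg.Agent.BpExc.TowChev
open Cfsg.Agent.H469.Exc
open Cfsg.Agent.H327.RG (fixS mem_fixS Fr Fl Lv Ty act FL fl_untw field_abs)
open Cfsg.Agent.H106.RC Cfsg.Agent.H873.RG
open Cfsg.Agent.H28.GenF (InD)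
open scoped commutatorElement

section

variable {F : Type} [Field F] [Fintype F] (f : F →+* KK 3) {m : ℕ}
  (hF : Fintype.card F = 3 ^ (2 * m + 1)) {Γ : MulAut ↥(chevG2.group (KK 3))} (hΓ : Spec Γ)

include hΓ in
/-- constant words in the level -/
theorem cw_mem_L {w : List (ℕ × ℤ)} (hw : Sm w) (h : ck (fw w) w = true) :
    cw F w ∈ fixS (emb hD f) (Γ ^ (2 * m + 1)) := by
  rw [mem_fixS, emb_cw, cw_pow_odd hΓ m hw, cw_eq _ h]

include hF hΓ in
/-- the elements `x_{2a+b}(v^θ) x_{3a+2b}(v)` -/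
theorem z_mem_L (v : F) : X 9 (v ^ 3 ^ m) * X 11 v ∈ fixS (emb hD f) (Γ ^ (2 * m + 1)) := by
  obtain ⟨β, h1, h2⟩ := exists_beta f hF hΓ
  have h3 : β (X 9 (v ^ 3 ^ m) * X 11 v) = X 9 (v ^ 3 ^ m) * X 11 v := by
    have f9 : fl 9 = 11 ∧ fl 11 = 9 ∧ la 9 = 3 ∧ la 11 = 1 := by decide
    have e : (v ^ 3 ^ m) ^ (3 * 3 ^ m) = v := by
      rw [← pow_mul]
      have : 3 ^ m * (3 * 3 ^ m) = Fintype.card F := by rw [hF]; ring
      rw [this]
      exact FiniteField.pow_card v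
    rw [map_mul, h1 9 (by norm_num), h1 11 (by norm_num), f9.1, f9.2.1, f9.2.2.1, f9.2.2.2, e, one_mul,
      comm_11 (by norm_num) (by norm_num)]
  rw [mem_fixS, ← h2, h3]

include hΓ in
/-- **the centralizer of the level** -/
theorem cent_L {y : ↥(chevG2.group (KK 3))}
    (h : ∀ a ∈ fixS (emb hD f) (Γ ^ (2 * m + 1)), y * emb hD f a = emb hD f a * y) : y = 1 := by
  have hu := h _ (cw_mem_L f hΓ (m := m) sm_u0 ck_u0)
  have hn := h _ (cw_mem_L f hΓ (m := m) sm_n0 ck_n0)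
  rw [emb_cw] at hu hn
  exact eq_one_of_u0_n0 hu hn

theorem cent_all {y : ↥(chevG2.group (KK 3))} (h : ∀ a, y * emb hD f a = emb hD f a * y) : y = 1 := by
  have hu := h (cw F u0)
  have hn := h (cw F n0)
  rw [emb_cw] at hu hn
  exact eq_one_of_u0_n0 hu hn

theorem cw_inv {k : Type*} [Field k] : (cw k [(7, 1)])⁻¹ = cw k [(7, -1)] := by
  rw [cw_cons, cw_cons, cw_nil, mul_one, mul_one, Int.cast_neg, Int.cast_one]
  exact (X_neg 7 1).symm

include hF hΓ in
/-- **the end** -/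
theorem fin_L {β : MulAut ↥(chevG2.group F)} (hβ : ∀ a, emb hD f (β a) = (Γ ^ (2 * m + 1)) (emb hD f a)) :
    ∃ u ∈ ⁅fixS (emb hD f) (Γ ^ (2 * m + 1)), fixS (emb hD f) (Γ ^ (2 * m + 1))⁆, u ≠ 1 ∧
      ∃ a b : ↥(chevG2.group F), a * u = u * a ∧ b * u = u * b ∧ ⁅β a * a⁻¹, b⁆ = u := by
  have : CharP F 3 := char3 hF
  have hc := cw_eq F ck_comm
  rw [cw_append, cw_append, cw_append] at hc
  have ha := cw_eq F ck_a
  rw [cw_append, cw_append] at ha
  have hb := cw_eq F ck_b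
  rw [cw_append, cw_append] at hb
  have hf := cw_eq F ck_fin
  rw [cw_append, cw_append, cw_append] at hf
  refine ⟨cw F z0, ?_, ?_, cw F [(7, 1)], cw F [(8, -1), (10, 1)], ha, hb, ?_⟩
  · have h1 := commutator_mem_commutator (cw_mem_L f hΓ (m := m) sm_u0 ck_u0) (cw_mem_L f hΓ (m := m) sm_h0 ck_h0)
    have h2 : ⁅cw F u0, cw F h0⁆ = cw F z0 := by
      rw [commutatorElement_def, hc]
      group
    rwa [h2] at h1
  · intro h
    have h1 : X 9 (1 : F) * X 11 (1 : F) = X 9 (0 : F) * X 11 (0 : F) := by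
      rw [X_zero, X_zero, one_mul, ← h, z0, cw_cons, cw_cons, cw_nil, mul_one, Int.cast_one]
    exact one_ne_zero (z_inj h1)
  · have h1 : β (cw F [(7, 1)]) = cw F [(6, 1)] := by
      apply emb_injective hD f
      rw [hβ, emb_cw, emb_cw, cw_pow_odd hΓ m (by decide)]
      rfl
    have h2 : β (cw F [(7, 1)]) * (cw F [(7, 1)])⁻¹ = cw F [(6, 1), (7, -1)] := by
      rw [h1, cw_inv, ← cw_append]
      rfl
    rw [h2, commutatorElement_def, hf]
    group

include hF hΓ in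
/-- **no field automorphism is trivial on the level** -/
theorem fld_L {y : ↥(chevG2.group (KK 3))} {m' p : ℕ} (hm' : 0 < m') (hp : 1 < p) (hmn : m' * p = 2 * m + 1) :
    ¬ ∀ a ∈ fixS (emb hD f) (Γ ^ (2 * m + 1)), y * phi chevG2 (KK 3) 3 m' (emb hD f a) * y⁻¹ = emb hD f a := by
  intro h
  have : Fact (Nat.Prime 3) := ⟨Nat.prime_three⟩
  have : CharP F 3 := char3 hF
  have hu := h _ (cw_mem_L f hΓ (m := m) sm_u0 ck_u0)
  have hn := h _ (cw_mem_L f hΓ (m := m) sm_n0 ck_n0)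
  rw [emb_cw, cw_phi m' sm_u0, mul_inv_eq_iff_eq_mul] at hu
  rw [emb_cw, cw_phi m' sm_n0, mul_inv_eq_iff_eq_mul] at hn
  have hy : y = 1 := eq_one_of_u0_n0 hu hn
  subst hy
  have h1 : 2 * m + 1 ∣ m' := by
    rw [← forall_pow_iff (F := F) 3 (by rw [Nat.card_eq_fintype_card, hF]) m']
    intro v
    have h2 := h _ (z_mem_L f hF hΓ v)
    have e : emb hD f (X 9 (v ^ 3 ^ m) * X 11 v) = xe hD 9 (f (v ^ 3 ^ m)) * xe hD 11 (f v) := by
      rw [map_mul]
      show emb hD f (xe hD 9 (v ^ 3 ^ m)) * emb hD f (xe hD 11 v) = _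
      rw [emb_xe, emb_xe]
    rw [one_mul, inv_one, mul_one, e, map_mul, phi_xe, phi_xe] at h2
    have h3 := z_inj h2
    rw [← map_pow] at h3
    exact f.injective h3
  have h2 := Nat.le_of_dvd hm' h1
  have h3 : m' * 2 ≤ m' * p := Nat.mul_le_mul_left _ hp
  omega

include hF hΓ in
/-- the frame -/
theorem fr_G2 : Fr (emb hD f) (phi chevG2 (KK 3) 3 (2 * m + 1)) := by
  have : Fact (Nat.Prime 3) := ⟨Nat.prime_three⟩
  have : CharP F 3 := char3 hF
  have hZ : center ↥(chevG2.group (KK 3)) = ⊥ := by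
    rw [eq_bot_iff]
    intro y hy
    rw [mem_bot]
    exact cent_all f fun a => (mem_center_iff.1 hy _).symm
  have h1 := fl_untw hpG f (n := 2 * m + 1) (m := 2 * m + 1) (p := 1)
    (by rw [Nat.card_eq_fintype_card, hF]) (by omega) (by omega) hZ
  exact ⟨h1.inj, h1.cent, h1.fixι, h1.norm⟩

include hF hΓ in
/-- **the level** -/
theorem lv_G2 (hIH : IHx (Nat.card ↥(chevG2.group F))) :
    Lv (emb hD f) (phi chevG2 (KK 3) 3 (2 * m + 1)) 2 (Γ ^ (2 * m + 1)) (fixS (emb hD f) (Γ ^ (2 * m + 1))) := by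
  obtain ⟨h1, h2, h3⟩ := der_facts f hF hΓ
  have hne : ⁅fixS (emb hD f) (Γ ^ (2 * m + 1)), fixS (emb hD f) (Γ ^ (2 * m + 1))⁆ ≠ ⊤ := by
    intro h
    have h4 : fixS (emb hD f) (Γ ^ (2 * m + 1)) = ⊤ := by
      rw [eq_top_iff, ← h]
      exact commutator_le_self _
    have h5 : ∀ a, (Γ ^ (2 * m + 1)) (emb hD f a) = emb hD f a := fun a => by
      rw [← mem_fixS, h4]; exact mem_top a
    obtain ⟨u, -, hu, a, b, -, -, hab⟩ := fin_L f hF hΓ (β := 1) (fun a => (h5 a).symm)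
    apply hu
    rw [← hab, MulAut.one_apply, mul_inv_cancel, commutatorElement_one_left]
  refine
    { pow := hΓ.pow_two_mul _
      lang := fun h => lang_spec hΓ m h
      fixL := fun a ha => ha
      charL := fun α hα a ha => hα a ha
      centL := fun y hy => cent_L f hΓ hy
      simple := h1
      ncomm := h2
      rc := ?_
      fin := fun β hβ => fin_L f hF hΓ hβ }
  refine hIH _ ⟨h1, h2, h3⟩ ?_
  by_contra hlt
  exact hne (Subgroup.eq_top_of_le_card _ (not_lt.1 hlt))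

end

/-- **`G₂(3^n)`: a cover with a graph-field automorphism, all other members inner-diagonal or of field type, is
impossible.** -/
theorem graph_G2 {F : Type} [Field F] [Fintype F] [CharP F 3] (f : F →+* KK 3) {n : ℕ} (hn : Nat.card F = 3 ^ n)
    (hodd : Odd n) {Γ : MulAut ↥(chevG2.group (KK 3))} (hΓ : Spec Γ) (hIH : IHx (Nat.card ↥(chevG2.group F)))
    {G Ω κ : Type*} [Group G] [MulAction G Ω] [Nonempty Ω] [Finite κ] {N : Subgroup G} (hE : Env G Ω N)
    (e : N ≃* ↥(chevG2.group F)) {x : κ → G} {q : κ → ℕ} (hx : PF x q) (hcov : Cov Ω x) {i₀ : κ} (h2 : q i₀ = 2)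
    (hi₀ : ∃ y, ∀ a, emb hpG.inList f (act hE e (x i₀) a) = y * (Γ ^ n) (emb hpG.inList f a) * y⁻¹)
    (hT : ∀ j, j ≠ i₀ → Ty hpG f n (q j) (act hE e (x j))) : False := by
  obtain ⟨m, rfl⟩ := hodd
  have hF : Fintype.card F = 3 ^ (2 * m + 1) := by rw [← Nat.card_eq_fintype_card, hn]
  obtain ⟨y, hy⟩ := hi₀
  refine field_abs (fr_G2 f hF hΓ) (lv_G2 f hF hΓ hIH) hE e hx hcov h2 ⟨1, y, by norm_num, fun a => ?_⟩ ?_
  · rw [pow_one]
    exact hy a
  · intro j hj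
    rcases hT j hj with h | ⟨i, m', y', hi, hm', hmn, hy'⟩
    · exact Or.inl h
    · refine Or.inr ⟨phi chevG2 (KK 3) 3 m', ⟨i, y', hi, hy'⟩, fun z => ?_⟩
      exact fld_L f hF hΓ hm' (hx.prime j).one_lt hmn

end Cfsg.Agent.H72.G2G
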