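import Cfsg.Agent.H72.G2G.Lev

/-!
# S3509, `G₂(3^n)`, `n` odd: the fixed points of the graph-field automorphism in `G₂(F)` (helper72)
-/

set_option autoImplicit false
set_option linter.unusedSectionVars false

namespace Cfsg.Agent.H72.G2G

open Subgroup Cfsg Cfsg.Lie Cfsg.Lie.ChevalleyDatum
open Cfsg.Agent.ChevalleyStructure Cfsg.Agent.ChevalleyStructure.Elts
open Cfsg.Agent.H689.Ccp (hD X fl la X_neg X_add X_zero X_inj ext_aut fl_tab H_conj comm_11)
open Cfsg.Agent.H70.ChevFix (xe)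
open Cfsg.Agent.GpExc.Field (glMap emb coe_emb glMap_xG emb_injective coe_glMap)
open Cfsg.Agent.BpExc.FamUntw Cfsg.Agent.BpExc.FamField Cfsg.Agent.BpExc.TowChev
open Cfsg.Agent.H469.Exc
open Cfsg.Agent.H327.RG (fixS mem_fixS)
open scoped commutatorElement

theorem ncomm_of_card {S : Type*} [Group S] (hs : IsSimpleGroup S) (h0 : Nat.card S ≠ 0) (h : ¬ (Nat.card S).Prime) :
    ¬ IsMulCommutative S := by
  intro hc
  have hfin : Finite S := Nat.finite_of_card_ne_zero h0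
  let _ : CommGroup S := { ‹Group S› with mul_comm := fun a b => hc.1.1 a b }
  exact h IsSimpleGroup.prime_card

theorem ncomm_congr {S S' : Type*} [Group S] [Group S'] (e : S ≃* S') (h : ¬ IsMulCommutative S') :
    ¬ IsMulCommutative S := by
  intro hc
  refine h ⟨⟨fun a b => ?_⟩⟩
  apply e.symm.injective
  rw [map_mul, map_mul]
  exact hc.1.1 _ _

theorem com_equiv {G G' : Type*} [Group G] [Group G'] (e : G ≃* G') : Nonempty (↥(commutator G) ≃* ↥(commutator G')) := by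
  have hcm : (commutator G).map e.toMonoidHom = commutator G' := by
    rw [commutator_def, Subgroup.map_commutator, commutator_def]
    have : (⊤ : Subgroup G).map e.toMonoidHom = ⊤ := Subgroup.map_top_of_surjective _ e.surjective
    rw [this]
  exact ⟨((commutator G).equivMapOfInjective e.toMonoidHom e.injective).trans (MulEquiv.subgroupCongr hcm)⟩

/-- the derived group is simple and not commutative -/
structure NSC (G : Type*) [Group G] : Prop where
  simple : IsSimpleGroup ↥(commutator G)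
  ncomm : ¬ IsMulCommutative ↥(commutator G)

theorem NSC.congr {G G' : Type*} [Group G] [Group G'] (h : NSC G') (e : G ≃* G') : NSC G := by
  obtain ⟨e3⟩ := com_equiv e
  exact ⟨(MulEquiv.isSimpleGroup_congr e3).2 h.simple, ncomm_congr e3 h.ncomm⟩

theorem NSC.of_perfect {G : Type*} [Group G] (h : commutator G = ⊤) (h1 : IsSimpleGroup G)
    (h2 : ¬ IsMulCommutative G) : NSC G := by
  have e : ↥(commutator G) ≃* G := (MulEquiv.subgroupCongr h).trans Subgroup.topEquiv
  exact ⟨(MulEquiv.isSimpleGroup_congr e).2 h1, ncomm_congr e h2⟩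

theorem NSC.of_card {G S : Type*} [Group G] [Group S] (hs : IsSimpleGroup S) (e : ↥(commutator G) ≃* S)
    (h0 : Nat.card ↥(commutator G) = 504) : NSC G := by
  have h1 : IsSimpleGroup ↥(commutator G) := (MulEquiv.isSimpleGroup_congr e).2 hs
  exact ⟨h1, ncomm_of_card h1 (by rw [h0]; norm_num) (by rw [h0]; norm_num)⟩

theorem com3 : NSC ↥(twistedG2 (ZMod 3) 1) := by
  let _ : Fintype (GaloisField 2 3) := Fintype.ofFinite _
  have h8 : Fintype.card (GaloisField 2 3) = 8 := by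
    rw [Fintype.card_eq_nat_card, GaloisField.card 2 3 (by norm_num)]; norm_num
  obtain ⟨hc1, ⟨e2⟩⟩ := S1075.result h8
  have hs2 : IsSimpleGroup (Matrix.ProjectiveSpecialLinearGroup (Fin 2) (GaloisField 2 3)) :=
    TwoFusion.SLTwoFacts.isSimpleGroup_psl (by rw [h8]; norm_num)
  exact NSC.of_card hs2 e2 hc1

section

variable {F : Type} [Field F] [Fintype F] (f : F →+* KK 3) {m : ℕ}
  (hF : Fintype.card F = 3 ^ (2 * m + 1)) {Γ : MulAut ↥(chevG2.group (KK 3))} (hΓ : Spec Γ)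

include hF in
theorem char3 : CharP F 3 := by
  have : Fact (Nat.Prime 3) := ⟨Nat.prime_three⟩
  exact charP_of_card_eq_prime_pow hF

include hF hΓ in
/-- the automorphism of `G₂(F)` -/
theorem exists_beta : ∃ β : MulAut ↥(chevG2.group F),
    (∀ r < 12, ∀ t : F, β (X r t) = X (fl r) (t ^ (la r * 3 ^ m))) ∧
    ∀ a, emb hD f (β a) = (Γ ^ (2 * m + 1)) (emb hD f a) := by
  have : Fact (Nat.Prime 3) := ⟨Nat.prime_three⟩
  have : CharP F 3 := char3 hF
  have : ExpChar F 3 := ExpChar.prime Nat.prime_three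
  have : PerfectRing F 3 := PerfectRing.ofFiniteOfIsReduced 3 F
  obtain ⟨γ, hγ⟩ := exists_spec F
  have h1 : ∀ r < 12, ∀ t : F, (γ ^ (2 * m + 1)) (X r t) = X (fl r) (t ^ (la r * 3 ^ m)) :=
    fun r hr t => hγ.pow_odd m hr t
  refine ⟨γ ^ (2 * m + 1), h1, fun a => ?_⟩
  refine group_ind (P := fun a => emb hD f ((γ ^ (2 * m + 1)) a) = (Γ ^ (2 * m + 1)) (emb hD f a)) ?_ ?_ ?_ a
  · rw [map_one, map_one, map_one]
  · intro g h hg hh
    rw [map_mul, map_mul, map_mul, map_mul, hg, hh]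
  · intro r hr t
    rw [h1 r hr t]
    show emb hD f (xe hD (fl r) (t ^ (la r * 3 ^ m))) = (Γ ^ (2 * m + 1)) (emb hD f (xe hD r t))
    rw [emb_xe, emb_xe, hΓ.pow_odd m hr, map_pow]

include hF hΓ in
/-- **the fixed points** -/
theorem mem_L (a : ↥(chevG2.group F)) : a ∈ fixS (emb hD f) (Γ ^ (2 * m + 1)) ↔
    (a : GL chevG2.Idx F) ∈ twistedG2 F (3 ^ m) := by
  obtain ⟨β, h1, h2⟩ := exists_beta f hF hΓ
  rw [mem_fixS, ← h2, ← fix_iff hF h1 a]
  exact ⟨fun h => emb_injective hD f h, fun h => by rw [h]⟩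

include hF hΓ in
theorem L_equiv : Nonempty (↥(fixS (emb hD f) (Γ ^ (2 * m + 1))) ≃* ↥(twistedG2 F (3 ^ m))) := by
  have h : fixS (emb hD f) (Γ ^ (2 * m + 1)) = (twistedG2 F (3 ^ m)).subgroupOf (chevG2.group F) := by
    ext a
    rw [mem_L f hF hΓ, Subgroup.mem_subgroupOf]
  exact ⟨(MulEquiv.subgroupCongr h).trans (Subgroup.subgroupOfEquivOfLe tw_le)⟩

/-- the derived group of `²G₂(q)` -/
theorem com_simple {m : ℕ} (hF : Fintype.card F = 3 ^ (2 * m + 1)) : NSC ↥(twistedG2 F (3 ^ m)) := by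
  rcases Nat.eq_zero_or_pos m with rfl | hm
  · have hc : Fintype.card F = Fintype.card (ZMod 3) := by rw [hF, ZMod.card]; norm_num
    obtain ⟨e⟩ := H362.ReeField.twistedG2_congr (F := F) (K := ZMod 3) hc 1
    rw [pow_zero]
    exact com3.congr e
  · obtain ⟨h1, h2⟩ := S1073.result hm hF
    exact NSC.of_perfect (S1116.result hF hm) h1 h2

include hF hΓ in
theorem der_facts : IsSimpleGroup ↥⁅fixS (emb hD f) (Γ ^ (2 * m + 1)), fixS (emb hD f) (Γ ^ (2 * m + 1))⁆ ∧
    ¬ IsMulCommutative ↥⁅fixS (emb hD f) (Γ ^ (2 * m + 1)), fixS (emb hD f) (Γ ^ (2 * m + 1))⁆ ∧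
    ¬ IsAlternating ↥⁅fixS (emb hD f) (Γ ^ (2 * m + 1)), fixS (emb hD f) (Γ ^ (2 * m + 1))⁆ := by
  obtain ⟨e⟩ := L_equiv f hF hΓ
  obtain ⟨e2⟩ := der_equiv _ e
  have h := com_simple hF
  refine ⟨(MulEquiv.isSimpleGroup_congr e2).2 h.simple, ncomm_congr e2 h.ncomm, ?_⟩
  apply five_alt
  intro h5
  have h6 : Nat.card ↥⁅fixS (emb hD f) (Γ ^ (2 * m + 1)), fixS (emb hD f) (Γ ^ (2 * m + 1))⁆ ∣
      Nat.card ↥(fixS (emb hD f) (Γ ^ (2 * m + 1))) := Subgroup.card_dvd_of_le (Subgroup.commutator_le_self _)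
  rw [Nat.card_congr e.toEquiv, S1069.result hF] at h6
  exact not_five m (h5.trans h6)

end

end Cfsg.Agent.H72.G2G
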