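import Cfsg.Agent.ChevalleyStructure.ReeCount
import Cfsg.Agent.H689.Ccp.GBase

/-!
# S3509, `G₂(3^n)`, `n` odd: the fixed points of the graph-field automorphism (helper72)

* `mem_of_good` : an automorphism of the bracket compatible with `φ` is in `²G₂(q)`;
* `pair_rel`, `good_of_fix`, `fix_le`, `le_fix` : the fixed points of `x_r(t) ↦ x_{r̄}(t ^ (λ_r 3^m))` are `²G₂(q)`.
-/

set_option autoImplicit false
set_option linter.unusedSectionVars false

namespace Cfsg.Agent.H72.G2G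

open Cfsg.Lie Cfsg.Agent.ChevalleyStructure Cfsg.Agent.ChevalleyStructure.Elts
open Cfsg.Agent.ChevalleyStructure.ReeVec Cfsg.Agent.ChevalleyStructure.ReeBr Cfsg.Agent.ChevalleyStructure.ReeRel
  Cfsg.Agent.ChevalleyStructure.ReeWords Cfsg.Agent.ChevalleyStructure.ReeOvoid
  Cfsg.Agent.ChevalleyStructure.ReeGroup Cfsg.Agent.ChevalleyStructure.ReeMain
  Cfsg.Agent.ChevalleyStructure.ReeTorus Cfsg.Agent.ChevalleyStructure.ReeCount
open Cfsg.Agent.H689.Ccp (hD X fl la X_neg)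
open Cfsg.Agent.H70.ChevFix (xe)

variable {K : Type} [Field K] [Fintype K] {m : ℕ}

/-- **the good elements are in `²G₂(q)`** -/
theorem mem_of_good (hK : Fintype.card K = 3 ^ (2 * m + 1)) {g : GL chevG2.Idx K} (hg : Good (phi hK) g) :
    g ∈ twistedG2 K (3 ^ m) := by
  have h3 := three_eq_zero hK
  obtain ⟨n, hn⟩ : ∃ n, n = nG (phi hK) (1 : K) := ⟨_, rfl⟩
  have hnm : n ∈ twistedG2 K (3 ^ m) := hn ▸ nG_mem hK 1
  have hng := good_of_mem hK hnm
  have step1 : ∀ g : GL chevG2.Idx K, Good (phi hK) g → L2 g → L9 g → g ∈ twistedG2 K (3 ^ m) := by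
    rintro g hg ⟨c, hc, h2⟩ h9
    obtain ⟨t, ht, h9', h2'⟩ := exists_torus hK hc
    have hgg : Good (phi hK) (t⁻¹ * g) := (good_of_mem hK (inv_mem ht)).mul hg
    have e : act (t⁻¹ * g) e2 = e2 := by
      rw [act_mul, h2, act_smul, act_inv_of hc h2', smul_smul, mul_inv_cancel₀ hc, one_smul]
    obtain ⟨d, -, hd⟩ := h9'.inv.mul h9
    have h := eq_one_of_fix_two h3 (phi_phi hK) hgg e hd
    rw [← inv_mul_eq_one.1 h]
    exact ht
  have step2 : ∀ g : GL chevG2.Idx K, Good (phi hK) g → L9 g → g ∈ twistedG2 K (3 ^ m) := by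
    intro g hg h9
    rcases dichotomy h3 (phi_phi hK) hg with ⟨c, hc, h⟩ | ⟨p, q, r, c, hc, h⟩
    · obtain ⟨d, hd, h'⟩ := h9
      exact (e9_not_e2 h3 hc hd h h').elim
    · have hu := uG_mem hK p q r
      have h1 := step1 _ ((good_of_mem hK (inv_mem hu)).mul hg) ⟨c, hc, h⟩ ((L9_uG h3 _ _ _ _).inv.mul h9)
      have h2 := mul_mem hu h1
      rwa [mul_inv_cancel_left] at h2
  have step3 : ∀ g : GL chevG2.Idx K, Good (phi hK) g → L2 g → g ∈ twistedG2 K (3 ^ m) := by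
    rintro g hg ⟨c, hc, h⟩
    have hg9 : L9 (n * g * n⁻¹) := by
      refine ⟨c, hc, ?_⟩
      rw [act_mul, act_mul, hn, n1inv_e9 h3, act_smul, h, act_smul, act_smul, n1_e2 h3, smul_smul, smul_smul]
      congr 1; ring
    have h1 := step2 _ ((hng.mul hg).mul hng.inv) hg9
    have h2 := mul_mem (mul_mem (inv_mem hnm) h1) hnm
    have h4 : n⁻¹ * (n * g * n⁻¹) * n = g := by group
    rwa [h4] at h2
  rcases dichotomy h3 (phi_phi hK) hg with ⟨c, hc, h⟩ | ⟨p, q, r, c, hc, h⟩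
  · have h1 := step3 (n⁻¹ * g) (hng.inv.mul hg) ⟨-c, neg_ne_zero.2 hc, by
      rw [act_mul, h, act_smul, hn, n1inv_e9 h3, smul_smul]
      congr 1; ring⟩
    have h2 := mul_mem hnm h1
    rwa [mul_inv_cancel_left] at h2
  · have hu := uG_mem hK p q r
    have h1 := step3 _ ((good_of_mem hK (inv_mem hu)).mul hg) ⟨c, hc, h⟩
    have h2 := mul_mem hu h1
    rwa [mul_inv_cancel_left] at h2

/-- a property of the elements of `G₂(K)` -/
theorem group_ind {k : Type} [Field k] {P : ↥(chevG2.group k) → Prop} (h1 : P 1) (hm : ∀ g h, P g → P h → P (g * h))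
    (hx : ∀ r < 12, ∀ t : k, P (X r t)) (g : ↥(chevG2.group k)) : P g := by
  let S : Subgroup (GL chevG2.Idx k) :=
    { carrier := {g | ∃ hg : g ∈ chevG2.group k, P ⟨g, hg⟩ ∧ P ⟨g, hg⟩⁻¹}
      one_mem' := ⟨one_mem _, h1, by
        have : (⟨1, one_mem _⟩ : ↥(chevG2.group k))⁻¹ = 1 := inv_one
        rw [this]; exact h1⟩
      mul_mem' := by
        rintro a b ⟨ha, ha1, ha2⟩ ⟨hb, hb1, hb2⟩
        refine ⟨mul_mem ha hb, hm ⟨a, ha⟩ ⟨b, hb⟩ ha1 hb1, ?_⟩
        have h2 := hm _ _ hb2 ha2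
        rw [← mul_inv_rev] at h2
        exact h2
      inv_mem' := by
        rintro a ⟨ha, ha1, ha2⟩
        refine ⟨inv_mem ha, ha2, ?_⟩
        have : (⟨a⁻¹, inv_mem ha⟩ : ↥(chevG2.group k))⁻¹ = ⟨a, ha⟩ := inv_inv (⟨a, ha⟩ : ↥(chevG2.group k))
        rw [this]; exact ha1 }
  have h2 : chevG2.group k ≤ S := by
    rw [group_le_iff hD]
    intro r hr t
    refine ⟨xG_mem_group hD r t, hx r hr t, ?_⟩
    have h3 := hx r hr (-t)
    rw [X_neg] at h3
    exact h3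
  obtain ⟨_, h3, _⟩ := h2 g.2
  exact h3

/-- **the relation between `g` and `β g`** -/
theorem pair_rel (hK : Fintype.card K = 3 ^ (2 * m + 1)) {β : MulAut ↥(chevG2.group K)}
    (hβ : ∀ r < 12, ∀ t : K, β (X r t) = X (fl r) (t ^ (la r * 3 ^ m))) (g : ↥(chevG2.group K)) :
    ∀ v Y, Rel (phi hK) v Y → Rel (phi hK) (act (g : GL chevG2.Idx K) v) (act (β g : GL chevG2.Idx K) Y) := by
  have h3 := three_eq_zero hK
  refine group_ind (P := fun g => ∀ v Y, Rel (phi hK) v Y →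
    Rel (phi hK) (act (g : GL chevG2.Idx K) v) (act (β g : GL chevG2.Idx K) Y)) ?_ ?_ ?_ g
  · intro v Y h
    rw [map_one, OneMemClass.coe_one, act_one, act_one]
    exact h
  · intro g h hg hh v Y hv
    rw [map_mul, Subgroup.coe_mul, Subgroup.coe_mul, act_mul, act_mul]
    exact hg _ _ (hh _ _ hv)
  · intro r hr t v Y hv
    rw [hβ r hr t]
    have e1 : ∀ x : K, phi hK x = (x ^ (1 * 3 ^ m)) ^ 3 := by
      intro x
      rw [phi_def, ← pow_mul, pow_succ, one_mul]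
    have e3 : ∀ x : K, phi hK x = x ^ (3 * 3 ^ m) := by
      intro x
      rw [phi_def, pow_succ, mul_comm]
    interval_cases r
    · exact rel_x0 h3 (e1 t) hv
    · exact rel_x1 h3 (e1 t) hv
    · exact rel_x2 h3 (e3 t) hv
    · exact rel_x3 h3 (e3 t) hv
    · exact rel_x4 h3 (e3 t) hv
    · exact rel_x5 h3 (e1 t) hv
    · exact rel_x6 h3 (e1 t) hv
    · exact rel_x7 h3 (e3 t) hv
    · exact rel_x8 h3 (e3 t) hv
    · exact rel_x9 h3 (e3 t) hv
    · exact rel_x10 h3 (e1 t) hv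
    · exact rel_x11 h3 (e1 t) hv

theorem aut_act {k : Type} [Field k] (g : ↥(chevG2.group k)) (u v : chevG2.Idx → k) :
    act (g : GL chevG2.Idx k) (br u v) = br (act (g : GL chevG2.Idx k) u) (act (g : GL chevG2.Idx k) v) := by
  revert u v
  refine group_ind (P := fun g => ∀ u v, act (g : GL chevG2.Idx k) (br u v) =
    br (act (g : GL chevG2.Idx k) u) (act (g : GL chevG2.Idx k) v)) ?_ ?_ ?_ g
  · intro u v
    rw [OneMemClass.coe_one, act_one, act_one, act_one]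
  · intro g h hg hh u v
    rw [Subgroup.coe_mul, act_mul, act_mul, act_mul, hh, hg]
  · intro r _ t u v
    exact isAut_x r t u v

/-- **the fixed points are in `²G₂(q)`** -/
theorem fix_le (hK : Fintype.card K = 3 ^ (2 * m + 1)) {β : MulAut ↥(chevG2.group K)}
    (hβ : ∀ r < 12, ∀ t : K, β (X r t) = X (fl r) (t ^ (la r * 3 ^ m))) {g : ↥(chevG2.group K)} (hg : β g = g) :
    (g : GL chevG2.Idx K) ∈ twistedG2 K (3 ^ m) := by
  refine mem_of_good hK ⟨fun u v => aut_act g u v, fun v Y h => ?_⟩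
  have h1 := pair_rel hK hβ g v Y h
  rwa [hg] at h1

end Cfsg.Agent.H72.G2G
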