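import Cfsg.Agent.H72.G2G.Reg
import Cfsg.Agent.H507.GmnTwF
import Cfsg.Agent.H327.RG.TwFour

/-!
# S3509, `G₂(3^n)`, `n` odd: Lang's theorem for the graph-field automorphism (helper72)

* `lang_spec` : `h = g⁻¹ * (Γ ^ n) g`.
-/

set_option autoImplicit false
set_option linter.unusedSectionVars false

namespace Cfsg.Agent.H72.G2G

open Subgroup Cfsg Cfsg.Lie Cfsg.Lie.ChevalleyDatum
open Cfsg.Agent.ChevalleyStructure Cfsg.Agent.ChevalleyStructure.Elts Cfsg.Agent.ChevalleyStructure.CoxeterGeom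
  Cfsg.Agent.ChevalleyStructure.CoxeterGeomTypes
open Cfsg.Agent.H689.Ccp (hD X fl la X_neg ext_aut fl_tab)
open Cfsg.Agent.H70.ChevFix (xe)
open Cfsg.Agent.GpExc.Field (glMap emb coe_emb glMap_xG emb_injective coe_glMap)
open Cfsg.Agent.BpExc.FamUntw Cfsg.Agent.BpExc.FamField Cfsg.Agent.BpExc.TowChev
open Cfsg.Agent.H469.Exc Cfsg.Agent.Nodes.RGDChev
open Cfsg.Agent.H79.SimpleGen (xS)

universe u

/-- **Lang's theorem for `Γ ^ n`, `n` odd** -/
theorem lang_spec {k : Type u} [Field k] [IsAlgClosed k] [CharP k 3] [PerfectRing k 3]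
    {Γ : MulAut ↥(chevG2.group k)} (hΓ : Spec Γ) (m : ℕ) (c : ↥(chevG2.group k)) :
    ∃ z : ↥(chevG2.group k), c = z⁻¹ * (Γ ^ (2 * m + 1)) z := by
  have key := Cfsg.Agent.H507.GmnTwF.lang_end hpG 3 (2 * m + 1) 2 (Nat.succ_pos _) {r | r < 12}
    (Γ ^ (2 * m + 1)) 1 (fun g => ?_) (fun r hr => ?_) (c := c) ?_
  · obtain ⟨z, -, hz⟩ := key
    exact ⟨z, hz⟩
  · rw [hΓ.pow_two_mul, one_mul, inv_one, mul_one]
    apply Units.ext
    ext i j
    show (((phi chevG2 k 3 (2 * m + 1) g : ↥(chevG2.group k)) : GL chevG2.Idx k) : Matrix _ _ k) i j =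
      iterateFrobenius k 3 (2 * m + 1) (((g : GL chevG2.Idx k) : Matrix _ _ k) i j)
    rw [phi_coe, iterateFrobenius_def]
    rfl
  · refine ⟨fl r, (fl_tab r hr).1, Polynomial.X ^ (la r * 3 ^ m), fun a => ?_⟩
    rw [Polynomial.eval_pow, Polynomial.eval_X]
    exact congrArg Subtype.val (hΓ.pow_odd m hr a)
  · have h : chevG2.group k ≤ Cfsg.Agent.LangThm.MM hpG.inList {r | r < 12} k := by
      rw [group_le_iff hD]
      intro r hr t
      exact Subgroup.subset_closure ⟨r, hr, t, rfl⟩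
    exact h c.2

end Cfsg.Agent.H72.G2G
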