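import Cfsg.Agent.H72.G2G.Reg
import Cfsg.Agent.H72.G2G.Lang
import Cfsg.Agent.H873.RG.Defs
import Cfsg.Agent.H362.ReeField
import Cfsg.Agent.TwoFusion.SLTwoFacts
import Cfsg.Agent.S1069
import Cfsg.Agent.S1073
import Cfsg.Agent.S1075
import Cfsg.Agent.S1116

/-!
# S3509, `G₂(3^n)`, `n` odd: the level of the graph-field automorphism (helper72)

* `exists_beta`, `mem_L` : the fixed points are `²G₂(q)`;
* `der_simple`, `der_ncomm`, `der_nalt` : the derived group `²G₂(q)'` is simple, not abelian, not alternating.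
-/

set_option autoImplicit false
set_option linter.unusedSectionVars false

namespace Cfsg.Agent.H72.G2G

open Subgroup Cfsg Cfsg.Lie Cfsg.Lie.ChevalleyDatum
open Cfsg.Agent.ChevalleyStructure Cfsg.Agent.ChevalleyStructure.Elts
open Cfsg.Agent.H689.Ccp (hD X fl la X_neg X_add X_zero X_inj ext_aut fl_tab H_conj comm_11)
open Cfsg.Agent.H70.ChevFix (xe)
open Cfsg.Agent.GpExc.Field (glMap emb coe_emb glMap_xG emb_injective coe_glMap)
open Cfsg.Agent.BpExc.FamUntw Cfsg.Agent.BpExc.FamField Cfsg.Agent.BpExc.TowChev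
open Cfsg.Agent.H469.Exc
open Cfsg.Agent.H327.RG (fixS mem_fixS)
open scoped commutatorElement

/-! ### general facts -/

theorem five_alt {S : Type*} [Group S] (h : ¬ 5 ∣ Nat.card S) : ¬ IsAlternating S := by
  rintro ⟨k, hk, ⟨e⟩⟩
  apply h
  rw [Nat.card_congr e.toEquiv]
  have h1 : Nat.card (alternatingGroup (Fin k)) * 2 = k.factorial := by
    have : Nontrivial (Fin k) := Fin.nontrivial_iff_two_le.2 (by omega)
    rw [mul_comm, nat_card_alternatingGroup, Nat.card_fin]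
    exact Nat.mul_div_cancel' (Nat.dvd_factorial (by norm_num) (by omega))
  have h2 : 5 ∣ Nat.card (alternatingGroup (Fin k)) * 2 := by
    rw [h1]
    exact Nat.dvd_factorial (by norm_num) hk
  exact (Nat.Coprime.dvd_of_dvd_mul_right (by norm_num) h2)

/-- the derived group -/
theorem der_equiv {G G' : Type*} [Group G] [Group G'] (L : Subgroup G) (e : ↥L ≃* G') :
    Nonempty (↥⁅L, L⁆ ≃* ↥(commutator G')) := by
  have h1 : (commutator ↥L).map L.subtype = ⁅L, L⁆ := by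
    rw [commutator_def, Subgroup.map_commutator, ← MonoidHom.range_eq_map, Subgroup.range_subtype]
  have h2 : (commutator ↥L).map e.toMonoidHom = commutator G' := by
    rw [commutator_def, Subgroup.map_commutator, commutator_def]
    have : (⊤ : Subgroup ↥L).map e.toMonoidHom = ⊤ := Subgroup.map_top_of_surjective _ e.surjective
    rw [this]
  refine ⟨?_⟩
  exact ((MulEquiv.subgroupCongr h1.symm).trans
    ((commutator ↥L).equivMapOfInjective L.subtype L.subtype_injective).symm).trans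
    (((commutator ↥L).equivMapOfInjective e.toMonoidHom e.injective).trans (MulEquiv.subgroupCongr h2))

theorem q_mod (m : ℕ) : 3 ^ (2 * m + 1) % 5 = 2 ∨ 3 ^ (2 * m + 1) % 5 = 3 := by
  induction m with
  | zero => right; norm_num
  | succ m ih =>
    have h : 3 ^ (2 * (m + 1) + 1) = 3 ^ (2 * m + 1) * 9 := by ring
    rw [h]
    omega

theorem not_five (m : ℕ) :
    ¬ 5 ∣ (3 ^ (2 * m + 1)) ^ 3 * (3 ^ (2 * m + 1) - 1) * ((3 ^ (2 * m + 1)) ^ 3 + 1) := by
  have h5 : Nat.Prime 5 := by norm_num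
  obtain ⟨q, hq⟩ : ∃ q, q = 3 ^ (2 * m + 1) := ⟨_, rfl⟩
  have hm := q_mod m
  rw [← hq] at hm ⊢
  have h3 : q ^ 3 % 5 = 2 ∨ q ^ 3 % 5 = 3 := by
    rcases hm with h | h
    · right; rw [Nat.pow_mod, h]
    · left; rw [Nat.pow_mod, h]
  intro hd
  rcases h5.dvd_mul.1 hd with hd | hd
  · rcases h5.dvd_mul.1 hd with hd | hd
    · omega
    · omega
  · omega

/-! ### the elements `x_{2a+b}(c) x_{3a+2b}(d)` -/

section z

variable {k : Type*} [Field k] [CharP k 3]

theorem two_ne : (2 : k) ≠ 0 := by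
  intro h
  have h3 : ((3 : ℕ) : k) = 0 := CharP.cast_eq_zero k 3
  have : (1 : k) = 0 := by
    have h4 : ((3 : ℕ) : k) = 2 + 1 := by norm_num
    rw [h4, h, zero_add] at h3
    exact h3
  exact one_ne_zero this

theorem z_inj {c d c' d' : k} (h : X 9 c * X 11 d = X 9 c' * X 11 d') : d = d' := by
  have e : ∀ c d : k, Cfsg.Agent.H689.Ccp.H (1 : k) (-1) * (X 9 c * X 11 d) * (Cfsg.Agent.H689.Ccp.H (1 : k) (-1))⁻¹ =
      X 9 c * X 11 (-d) := by
    intro c d
    have e1 : ∀ g a b : Cfsg.Agent.H689.Ccp.GG2 k, g * (a * b) * g⁻¹ = (g * a * g⁻¹) * (g * b * g⁻¹) := fun g a b => by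
      group
    have c9 : Cfsg.Agent.H689.Ccp.ca 9 = 1 ∧ Cfsg.Agent.H689.Ccp.cb 9 = 0 ∧ Cfsg.Agent.H689.Ccp.ca 11 = 0 ∧
      Cfsg.Agent.H689.Ccp.cb 11 = 1 := by decide
    rw [e1, H_conj one_ne_zero (neg_ne_zero.2 one_ne_zero) (by norm_num),
      H_conj one_ne_zero (neg_ne_zero.2 one_ne_zero) (by norm_num), c9.1, c9.2.1, c9.2.2.1, c9.2.2.2]
    simp
  have h2 : X 9 c * X 11 (-d) = X 9 c' * X 11 (-d') := by rw [← e, ← e, h]
  have h3 : (X 9 c * X 11 (-d))⁻¹ * (X 9 c * X 11 d) = (X 9 c' * X 11 (-d'))⁻¹ * (X 9 c' * X 11 d') := by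
    rw [h2, h]
  have h4 : ∀ c d : k, (X 9 c * X 11 (-d))⁻¹ * (X 9 c * X 11 d) = X 11 (d + d) := by
    intro c d
    rw [mul_inv_rev, X_neg, inv_inv, X_add]
    group
  rw [h4, h4] at h3
  have h5 := X_inj (by norm_num) h3
  have h6 : 2 * d = 2 * d' := by rw [two_mul, two_mul, h5]
  exact mul_left_cancel₀ two_ne h6

end z

end Cfsg.Agent.H72.G2G
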