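import Cfsg.Agent.H72.G2G.Const

/-!
# S3509, `G₂(3^n)`, `n` odd: elements commuting with the constant elements `u0`, `n0` (helper72)

* `eq_one_of_u0_n0` : an element of `G₂(k)` commuting with `u0` and `n0` is trivial.
-/

set_option autoImplicit false
set_option linter.unusedSectionVars false

namespace Cfsg.Agent.H72.G2G

open Subgroup Cfsg Cfsg.Lie Cfsg.Lie.ChevalleyDatum
open Cfsg.Agent.ChevalleyStructure Cfsg.Agent.ChevalleyStructure.Elts Cfsg.Agent.ChevalleyStructure.BruhatSplit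
  Cfsg.Agent.ChevalleyStructure.RootWord Cfsg.Agent.ChevalleyStructure.NConj
open Cfsg.Agent.H689.Ccp (hD X fl la X_neg ext_aut fl_tab)
open Cfsg.Agent.H70.ChevFix (xe)
open Cfsg.Agent.H522.FamTw.Cent (Co eq_one_of_comm)
open Cfsg.Agent.Nodes.RGDChev (IsType typeList)

universe u

theorem hpG : IsType chevG2 2 CoxeterMatrix.G₂ := by simp [IsType, typeList]

theorem pos_tab : ∀ r < 12, 6 ≤ r → chevG2.IsPosRoot r := by decide +kernel

theorem simple_tab : chevG2.simple 0 = 7 ∧ chevG2.simple 1 = 6 ∧ chevG2.neg 7 = 4 ∧ chevG2.neg 6 = 5 ∧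
    chevG2.rank = 2 ∧ chevG2.nroots = 12 := by decide +kernel

theorem wact_tab : ∀ r < 12, ¬ 6 ≤ r → 6 ≤ wact chevG2 ([0] ++ ([1] ++ ([0] ++ ([1] ++ ([0] ++ [1]))))) r ∧
    wact chevG2 ([0] ++ ([1] ++ ([0] ++ ([1] ++ ([0] ++ [1]))))) r < 12 := by decide +kernel

theorem neg_tab : ∀ r < 12, chevG2.IsNegRoot r → ¬ 6 ≤ r := by decide +kernel

section

variable {k : Type u} [Field k]

/-- positive words -/
theorem cw_mem_pos {w : List (ℕ × ℤ)} (hw : ∀ p ∈ w, 6 ≤ p.1 ∧ p.1 < 12) :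
    ((cw k w : ↥(chevG2.group k)) : GL chevG2.Idx k) ∈ chevG2.posUnipotent k := by
  induction w with
  | nil => exact one_mem _
  | cons p w ih =>
    have hp := hw p List.mem_cons_self
    rw [cw_cons, Subgroup.coe_mul]
    exact mul_mem (xG_mem_posUnipotent hD (pos_tab _ hp.2 hp.1) _) (ih fun q hq => hw q (List.mem_cons_of_mem _ hq))

theorem cw_mem_Ui {i : ℕ} {w : List (ℕ × ℤ)} (hw : ∀ p ∈ w, (6 ≤ p.1 ∧ p.1 < 12) ∧ p.1 ≠ chevG2.simple i) :
    ((cw k w : ↥(chevG2.group k)) : GL chevG2.Idx k) ∈ Ui k chevG2 i := by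
  induction w with
  | nil => exact one_mem _
  | cons p w ih =>
    have hp := hw p List.mem_cons_self
    rw [cw_cons, Subgroup.coe_mul]
    exact mul_mem (Subgroup.subset_closure ⟨_, _, pos_tab _ hp.1.2 hp.1.1, hp.2, coe_xG hD _ _⟩)
      (ih fun q hq => hw q (List.mem_cons_of_mem _ hq))

theorem co_cw [CharP k 3] {i : ℕ} {w w' : List (ℕ × ℤ)} (h : ck w (w' ++ [(chevG2.simple i, 1)]) = true)
    (hw' : ∀ p ∈ w', (6 ≤ p.1 ∧ p.1 < 12) ∧ p.1 ≠ chevG2.simple i) :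
    Co hD i ((cw k w : ↥(chevG2.group k)) : GL chevG2.Idx k) 1 := by
  refine ⟨_, cw_mem_Ui hw', ?_⟩
  rw [cw_eq k h, cw_append, Subgroup.coe_mul, cw_cons, cw_nil, mul_one, Int.cast_one]
  rfl

theorem co_u0 [CharP k 3] : ∀ i < chevG2.rank, ∃ s : k, Co hD i ((cw k u0 : ↥(chevG2.group k)) : GL chevG2.Idx k) s ∧
    s ≠ 0 := by
  intro i hi
  rw [simple_tab.2.2.2.2.1] at hi
  refine ⟨1, ?_, one_ne_zero⟩
  interval_cases i
  · refine co_cw (w' := [(6, 1), (10, 1), (11, 1)]) ?_ ?_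
    · rw [simple_tab.1]; exact ck_u0a
    · rw [simple_tab.1]; decide
  · refine co_cw (w' := [(7, 1), (8, 1), (9, 1)]) ?_ ?_
    · rw [simple_tab.2.1]; exact ck_u0b
    · rw [simple_tab.2.1]; decide

theorem coe_n7 : ((cw k [(7, 1), (4, -1), (7, 1)] : ↥(chevG2.group k)) : GL chevG2.Idx k) =
    nG hD (chevG2.simple 0) 1 := by
  rw [coe_cw, nG, nWord, simple_tab.1, simple_tab.2.2.1]
  simp

theorem coe_n6 : ((cw k [(6, 1), (5, -1), (6, 1)] : ↥(chevG2.group k)) : GL chevG2.Idx k) =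
    nG hD (chevG2.simple 1) 1 := by
  rw [coe_cw, nG, nWord, simple_tab.2.1, simple_tab.2.2.2.1]
  simp

theorem coe_n0 : ((cw k n0 : ↥(chevG2.group k)) : GL chevG2.Idx k) =
    nG hD (chevG2.simple 0) 1 * (nG hD (chevG2.simple 1) 1 * (nG hD (chevG2.simple 0) 1 * (nG hD (chevG2.simple 1) 1 *
      (nG hD (chevG2.simple 0) 1 * nG hD (chevG2.simple 1) 1)))) := by
  have e : n0 = [(7, 1), (4, -1), (7, 1)] ++ ([(6, 1), (5, -1), (6, 1)] ++ ([(7, 1), (4, -1), (7, 1)] ++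
    ([(6, 1), (5, -1), (6, 1)] ++ ([(7, 1), (4, -1), (7, 1)] ++ [(6, 1), (5, -1), (6, 1)])))) := rfl
  rw [e, cw_append, cw_append, cw_append, cw_append, cw_append]
  simp only [Subgroup.coe_mul, coe_n7, coe_n6]

theorem n0_mono : ((cw k n0 : ↥(chevG2.group k)) : GL chevG2.Idx k) ∈ chevG2.monomialSubgroup k := by
  have h0 : nG hD (chevG2.simple 0) (1 : k) ∈ chevG2.monomialSubgroup k :=
    nG_mem_monomial hD (by rw [simple_tab.1]; decide) one_ne_zero
  have h1 : nG hD (chevG2.simple 1) (1 : k) ∈ chevG2.monomialSubgroup k :=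
    nG_mem_monomial hD (by rw [simple_tab.2.1]; decide) one_ne_zero
  rw [coe_n0]
  exact mul_mem h0 (mul_mem h1 (mul_mem h0 (mul_mem h1 (mul_mem h0 h1))))

theorem n0_acts : Acts ((cw k n0 : ↥(chevG2.group k)) : GL chevG2.Idx k)
    ([0] ++ ([1] ++ ([0] ++ ([1] ++ ([0] ++ [1]))))) := by
  have G := RootComb.good_of_mem hD
  have h0 : 0 < chevG2.rank := by rw [simple_tab.2.2.2.2.1]; decide
  have h1 : 1 < chevG2.rank := by rw [simple_tab.2.2.2.2.1]; decide
  have hl : ∀ w : List ℕ, (∀ a ∈ w, a = 0 ∨ a = 1) → ∀ a ∈ w, a < chevG2.rank := by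
    intro w hw a ha
    rcases hw a ha with rfl | rfl
    · exact h0
    · exact h1
  have a0 : Acts (nG hD (chevG2.simple 0) (1 : k)) [0] := acts_nG_simple hD h0
  have a1 : Acts (nG hD (chevG2.simple 1) (1 : k)) [1] := acts_nG_simple hD h1
  rw [coe_n0]
  generalize nG hD (chevG2.simple 0) (1 : k) = x at a0
  generalize nG hD (chevG2.simple 1) (1 : k) = y at a1
  have b2 := Acts.mul G a0 a1 (hl _ (by decide))
  have b3 := Acts.mul G a1 b2 (hl _ (by decide))
  have b4 := Acts.mul G a0 b3 (hl _ (by decide))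
  have b5 := Acts.mul G a1 b4 (hl _ (by decide))
  exact Acts.mul G a0 b5 (hl _ (by decide))

theorem n0_neg (v : GL chevG2.Idx k) (hv : v ∈ chevG2.negUnipotent k) :
    ((cw k n0 : ↥(chevG2.group k)) : GL chevG2.Idx k) * v * ((cw k n0 : ↥(chevG2.group k)) : GL chevG2.Idx k)⁻¹ ∈
      chevG2.posUnipotent k := by
  have h1 : chevG2.negUnipotent k ≤ (chevG2.posUnipotent k).comap
      (MulAut.conj ((cw k n0 : ↥(chevG2.group k)) : GL chevG2.Idx k)).toMonoidHom := by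
    rw [negUnipotent_le_iff hD]
    intro r hr t
    have hr12 : r < 12 := hr.1
    have h2 := wact_tab r hr12 (neg_tab r hr12 hr)
    have h3 := Subgroup.mem_map_of_mem
      (MulAut.conj ((cw k n0 : ↥(chevG2.group k)) : GL chevG2.Idx k)).toMonoidHom (xG_mem_rootSubgroup hD r t)
    rw [n0_acts r hr.1] at h3
    obtain ⟨c, hc⟩ := (mem_rootSubgroup_iff hD _ _).1 h3
    rw [Subgroup.mem_comap, hc]
    exact xG_mem_posUnipotent hD (pos_tab _ h2.2 h2.1) c
  exact h1 hv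

/-- **an element commuting with `u0` and `n0` is trivial** -/
theorem eq_one_of_u0_n0 [CharP k 3] {y : ↥(chevG2.group k)} (hu : y * cw k u0 = cw k u0 * y)
    (hn : y * cw k n0 = cw k n0 * y) : y = 1 := by
  apply Subtype.ext
  exact eq_one_of_comm hpG y.2 (cw_mem_pos (by decide)) co_u0 (congrArg Subtype.val hu) n0_mono n0_neg
    (congrArg Subtype.val hn)

end

end Cfsg.Agent.H72.G2G
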